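import Mathlib
import Cfsg.Agent.H662.HT.Sym

/-!
# S3540/S3577, task A2 (helper990): the number of solutions of `n ^ s = 1` in the centraliser of `S`

`sol_full_of`, `sol_two_of` : with the hypothesis `|C_N(S)| |S| = |N|` (task A1).
-/

set_option autoImplicit false

open scoped commutatorElement
open Finset

namespace Cfsg.Agent.H990.HT

open Cfsg.Agent.H662.HT

universe u v

variable {s a : ℕ} {N : Type u} {V : Type v} [Group N] [AddCommGroup V] [DistribMulAction N V]

/-- the central elements of order dividing `s` -/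
def Om (s : ℕ) (N : Type u) [Group N] : Set N := {c | c ∈ Subgroup.center N ∧ c ^ s = 1}

/-- `N` is not abelian -/
theorem exists_comm_ne (H : Sym s a N V) : ∃ x y : N, ⁅x, y⁆ ≠ 1 := by
  have := H.fin
  by_contra hcon
  push Not at hcon
  have h1 : Subgroup.center N = ⊤ := by
    rw [eq_top_iff]
    intro x _
    rw [Subgroup.mem_center_iff]
    intro y
    exact commutatorElement_eq_one_iff_mul_comm.1 (hcon y x)
  have h2 := H.card
  rw [h1, Subgroup.card_top] at h2
  have h3 : 1 < s ^ (2 * a) := Nat.one_lt_pow (by have := H.ha; omega) H.hs.one_lt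
  have h4 : 0 < Nat.card N := Nat.card_pos
  nlinarith

theorem card_Om (H : Sym s a N V) : Nat.card (Om s N) = s := by
  classical
  have := H.fin
  have := H.cyc
  have := Fintype.ofFinite N
  have := Fintype.ofFinite (Subgroup.center N)
  obtain ⟨x, y, hxy⟩ := exists_comm_ne H
  have hs := H.hs
  set w : Subgroup.center N := ⟨⁅x, y⁆, H.comm x y⟩ with hw
  have hw1 : w ^ s = 1 := Subtype.ext (H.comm_pow x y)
  have hwne : w ≠ 1 := fun h => hxy (congrArg Subtype.val h)
  have hsf : Fact s.Prime := ⟨hs⟩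
  have hwo : orderOf w = s := orderOf_eq_prime hw1 hwne
  have e : Om s N ≃ {c : Subgroup.center N | c ^ s = 1} :=
    { toFun := fun c => ⟨⟨c.1, c.2.1⟩, Subtype.ext c.2.2⟩
      invFun := fun c => ⟨c.1.1, c.1.2, congrArg Subtype.val c.2⟩
      left_inv := fun _ => rfl
      right_inv := fun _ => rfl }
  rw [Nat.card_congr e]
  apply le_antisymm
  · have h1 := IsCyclic.card_pow_eq_one_le (α := Subgroup.center N) (n := s) hs.pos
    rw [Nat.card_eq_fintype_card, Fintype.card_subtype]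
    refine le_trans (le_of_eq ?_) h1
    congr 1
  · have h2 : ((Subgroup.zpowers w : Subgroup (Subgroup.center N)) : Set (Subgroup.center N)) ⊆
        {c : Subgroup.center N | c ^ s = 1} := by
      intro c hc
      obtain ⟨k, rfl⟩ := Subgroup.mem_zpowers_iff.1 hc
      change (w ^ k) ^ s = 1
      rw [← zpow_natCast, ← zpow_mul, mul_comm, zpow_mul, zpow_natCast, hw1, one_zpow]
    have h3 := Nat.card_mono (Set.toFinite _) h2
    have h4 : Nat.card ((Subgroup.zpowers w : Subgroup (Subgroup.center N)) : Set (Subgroup.center N)) = s := by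
      rw [← hwo, ← Nat.card_zpowers]
      rfl
    exact h4.symm.le.trans h3

/-- **A2, first part** -/
theorem sol_full_of (H : Sym s a N V) (hF : Full s N) {S : Subgroup N}
    (hcen : Nat.card (Subgroup.centralizer (S : Set N)) * Nat.card S = Nat.card N) :
    Nat.card (sol s S) * Nat.card S = s ^ (2 * a + 1) := by
  have := H.fin
  choose f hf hfs using hF
  have hmulpow : ∀ (x c : N), c ∈ Subgroup.center N → (x * c) ^ s = x ^ s * c ^ s := fun x c hc =>
    (show Commute x c from (Subgroup.mem_center_iff.1 hc x)).mul_pow s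
  have hcc : ∀ c : N, c ∈ Subgroup.center N → c ∈ Subgroup.centralizer (S : Set N) := fun c hc => by
    rw [Subgroup.mem_centralizer_iff]
    exact fun g _ => Subgroup.mem_center_iff.1 hc g
  let e : (Subgroup.centralizer (S : Set N)) × (Om s N) ≃ (sol s S) × (Subgroup.center N) :=
    { toFun := fun x => (⟨(x.1 : N) * f x.1 * x.2, by
          refine ⟨mul_mem (mul_mem x.1.2 (hcc _ (hf _))) (hcc _ x.2.2.1), ?_⟩
          rw [hmulpow _ _ x.2.2.1, hfs, x.2.2.2, one_mul]⟩,
        ⟨(f x.1 * x.2)⁻¹, inv_mem (mul_mem (hf _) x.2.2.1)⟩)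
      invFun := fun y => (⟨(y.1 : N) * y.2, mul_mem y.1.2.1 (hcc _ y.2.2)⟩,
        ⟨(f ((y.1 : N) * y.2))⁻¹ * (y.2 : N)⁻¹, by
          refine ⟨mul_mem (inv_mem (hf _)) (inv_mem y.2.2), ?_⟩
          have h1 := hfs ((y.1 : N) * y.2)
          rw [mul_assoc, hmulpow _ _ (mul_mem y.2.2 (hf _)), y.1.2.2, one_mul] at h1
          rw [← mul_inv_rev, inv_pow, h1, inv_one]⟩)
      left_inv := by
        rintro ⟨x, w⟩
        have h1 : (x : N) * f x * w * (f x * w)⁻¹ = x := by
          rw [mul_assoc (x : N), mul_inv_cancel_right]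
        refine Prod.ext (Subtype.ext h1) (Subtype.ext ?_)
        change (f ((x : N) * f x * w * (f x * w)⁻¹))⁻¹ * ((f x * w)⁻¹ : N)⁻¹ = w
        rw [h1, inv_inv, inv_mul_cancel_left]
      right_inv := by
        rintro ⟨y, c⟩
        have h0 : (f ((y : N) * c))⁻¹ * (c : N)⁻¹ = (c : N)⁻¹ * (f ((y : N) * c))⁻¹ :=
          (Subgroup.mem_center_iff.1 (inv_mem c.2) _)
        have h1 : (y : N) * c * f (y * c) * ((f ((y : N) * c))⁻¹ * (c : N)⁻¹) = y := by
          rw [mul_assoc ((y : N) * c), mul_inv_cancel_left, mul_inv_cancel_right]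
        refine Prod.ext (Subtype.ext h1) (Subtype.ext ?_)
        change (f ((y : N) * c) * ((f ((y : N) * c))⁻¹ * (c : N)⁻¹))⁻¹ = c
        rw [mul_inv_cancel_left, inv_inv] }
  have h1 := Nat.card_congr e
  rw [Nat.card_prod, Nat.card_prod, card_Om H] at h1
  have h2 := H.card
  have h3 : 0 < Nat.card (Subgroup.center N) := Nat.card_pos
  have h4 : Nat.card (Subgroup.center N) * (Nat.card (sol s S) * Nat.card S) =
      Nat.card (Subgroup.center N) * s ^ (2 * a + 1) := by
    calc Nat.card (Subgroup.center N) * (Nat.card (sol s S) * Nat.card S)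
        = (Nat.card (sol s S) * Nat.card (Subgroup.center N)) * Nat.card S := by ring
      _ = Nat.card (Subgroup.centralizer (S : Set N)) * s * Nat.card S := by rw [h1]
      _ = (Nat.card (Subgroup.centralizer (S : Set N)) * Nat.card S) * s := by ring
      _ = Nat.card (Subgroup.center N) * s ^ (2 * a) * s := by rw [hcen, h2]
      _ = Nat.card (Subgroup.center N) * s ^ (2 * a + 1) := by ring
  exact Nat.eq_of_mul_eq_mul_left h3 h4

section two

open Classical in
/-- the character of a central subgroup of order 2 -/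
noncomputable def sgn (c : N) : ℤ := if c = 1 then 1 else -1

theorem sgn_one : sgn (1 : N) = 1 := if_pos rfl

theorem sgn_mul_self (c : N) : sgn c * sgn c = 1 := by
  unfold sgn
  split_ifs <;> rfl

theorem sgn_mul (hz : Nat.card (Subgroup.center N) = 2) {c d : N} (hc : c ∈ Subgroup.center N)
    (hd : d ∈ Subgroup.center N) : sgn (c * d) = sgn c * sgn d := by
  have key : ∀ x ∈ Subgroup.center N, ∀ y ∈ Subgroup.center N, x ≠ 1 → y ≠ 1 → x = y := by
    intro x hx y hy hx1 hy1
    by_contra hne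
    have : Finite (Subgroup.center N) := Nat.finite_of_card_ne_zero (by rw [hz]; norm_num)
    have h3 : Function.Injective (![⟨1, one_mem _⟩, ⟨x, hx⟩, ⟨y, hy⟩] : Fin 3 → Subgroup.center N) := by
      intro i j hij
      fin_cases i <;> fin_cases j <;> simp_all [Subtype.ext_iff]
    have h4 := Nat.card_le_card_of_injective _ h3
    rw [hz, Nat.card_eq_fintype_card, Fintype.card_fin] at h4
    omega
  by_cases h1 : c = 1
  · subst h1
    rw [one_mul, sgn_one, one_mul]
  · by_cases h2 : d = 1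
    · subst h2
      rw [mul_one, sgn_one, mul_one]
    · have h3 : d⁻¹ = c := key _ (inv_mem hd) _ hc (inv_ne_one.2 h2) h1
      have h4 : sgn c = -1 := if_neg h1
      have h5 : sgn d = -1 := if_neg h2
      rw [h4, h5, ← h3, inv_mul_cancel, sgn_one]
      rfl

/-- the quadratic form: `1` if `x ^ 2 = 1`, `-1` otherwise -/
noncomputable def gq (x : N) : ℤ := sgn (x ^ 2)

/-- the symplectic form -/
noncomputable def kap (x y : N) : ℤ := sgn ⁅x, y⁆

theorem gq_mul_self (x : N) : gq x * gq x = 1 := sgn_mul_self _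

variable (H : Sym 2 a N V) (hz : Nat.card (Subgroup.center N) = 2)

include H hz

theorem kap_mul_left (x y z : N) : kap (x * y) z = kap x z * kap y z := by
  unfold kap
  rw [H.comm_mul_left, sgn_mul hz (H.comm _ _) (H.comm _ _)]

theorem kap_comm (x y : N) : kap x y = kap y x := by
  unfold kap
  have h1 : sgn (⁅y, x⁆ * ⁅x, y⁆) = sgn ⁅y, x⁆ * sgn ⁅x, y⁆ := sgn_mul hz (H.comm _ _) (H.comm _ _)
  have h2 : ⁅y, x⁆ * ⁅x, y⁆ = 1 := by rw [← commutatorElement_inv x y, inv_mul_cancel]
  rw [h2, sgn_one] at h1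
  have h3 := sgn_mul_self ⁅y, x⁆
  calc sgn ⁅x, y⁆ = sgn ⁅y, x⁆ * sgn ⁅y, x⁆ * sgn ⁅x, y⁆ := by rw [h3, one_mul]
    _ = sgn ⁅y, x⁆ * (sgn ⁅y, x⁆ * sgn ⁅x, y⁆) := by ring
    _ = sgn ⁅y, x⁆ := by rw [← h1, mul_one]

theorem gq_mul (x y : N) : gq (x * y) = gq x * gq y * kap x y := by
  have h1 : (x * y) ^ 2 = x ^ 2 * y ^ 2 * ⁅y⁻¹, x⁻¹⁆ := by
    simp only [commutatorElement_def, pow_two]
    have h2 : y * x = x * y * ⁅y⁻¹, x⁻¹⁆ := by
      simp only [commutatorElement_def]; group
    have h3 := Subgroup.mem_center_iff.1 (H.comm y⁻¹ x⁻¹) y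
    simp only [commutatorElement_def] at h2 h3
    calc x * y * (x * y) = x * (y * x) * y := by group
      _ = x * (x * y * (y⁻¹ * x⁻¹ * y⁻¹⁻¹ * x⁻¹⁻¹)) * y := by rw [h2]
      _ = x * x * y * ((y⁻¹ * x⁻¹ * y⁻¹⁻¹ * x⁻¹⁻¹) * y) := by group
      _ = x * x * y * (y * (y⁻¹ * x⁻¹ * y⁻¹⁻¹ * x⁻¹⁻¹)) := by rw [h3]
      _ = x * x * (y * y) * (y⁻¹ * x⁻¹ * y⁻¹⁻¹ * x⁻¹⁻¹) := by group
  have h4 : kap y⁻¹ x⁻¹ = kap x y := by
    have h5 : ∀ u v : N, kap u⁻¹ v = kap u v := by
      intro u v
      have h6 := kap_mul_left H hz u⁻¹ u v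
      rw [inv_mul_cancel] at h6
      have h7 : kap (1 : N) v = 1 := by
        unfold kap
        rw [commutatorElement_one_left, sgn_one]
      rw [h7] at h6
      have h8 : kap u v * kap u v = 1 := sgn_mul_self _
      calc kap u⁻¹ v = kap u⁻¹ v * (kap u v * kap u v) := by rw [h8, mul_one]
        _ = (kap u⁻¹ v * kap u v) * kap u v := by ring
        _ = kap u v := by rw [← h6, one_mul]
    rw [h5, kap_comm H hz, h5]
  unfold gq
  rw [h1, sgn_mul hz (mul_mem (H.exp _) (H.exp _)) (H.comm _ _), sgn_mul hz (H.exp _) (H.exp _)]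
  change sgn (x ^ 2) * sgn (y ^ 2) * kap y⁻¹ x⁻¹ = _
  rw [h4]

open Classical in
/-- the sum over a subgroup of a non-trivial `kap (·, d)` vanishes -/
theorem sum_kap [Fintype N] (K : Subgroup N) [Fintype K] (d : N) :
    ∑ x : K, kap (x : N) d = if d ∈ Subgroup.centralizer (K : Set N) then (Nat.card K : ℤ) else 0 := by
  classical
  by_cases h : d ∈ Subgroup.centralizer (K : Set N)
  · rw [if_pos h]
    have h1 : ∀ x : K, kap (x : N) d = 1 := by
      intro x
      unfold kap
      rw [commutatorElement_eq_one_iff_mul_comm.2 (Subgroup.mem_centralizer_iff.1 h x x.2), sgn_one]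
    rw [Finset.sum_congr rfl fun x _ => h1 x]
    simp [Nat.card_eq_fintype_card]
  · rw [if_neg h]
    obtain ⟨y, hy, hne⟩ : ∃ y ∈ K, ⁅y, d⁆ ≠ 1 := by
      by_contra hcon
      push Not at hcon
      exact h (Subgroup.mem_centralizer_iff.2 fun g hg => commutatorElement_eq_one_iff_mul_comm.1 (hcon g hg))
    have h1 : kap y d = -1 := if_neg hne
    have h2 : ∑ x : K, kap (x : N) d = ∑ x : K, kap (((⟨y, hy⟩ : K) * x : K) : N) d :=
      (Fintype.sum_equiv (Equiv.mulLeft (⟨y, hy⟩ : K)) _ _ fun _ => rfl).symm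
    have h3 : ∑ x : K, kap (((⟨y, hy⟩ : K) * x : K) : N) d = -∑ x : K, kap (x : N) d := by
      rw [← Finset.sum_neg_distrib]
      refine Finset.sum_congr rfl fun x _ => ?_
      rw [Subgroup.coe_mul, kap_mul_left H hz, h1, neg_one_mul]
    rw [h3] at h2
    linarith

omit hz in
theorem gq_eq_one {S : Subgroup N} (hS : S ⊓ Subgroup.center N = ⊥) {x : N} (hx : x ∈ S) : gq x = 1 := by
  unfold gq
  rw [H.expS hS hx, sgn_one]

open Classical in
/-- `T(S) = T(1)` -/
theorem sum_gq [Fintype N] {S : Subgroup N} (hS : S ⊓ Subgroup.center N = ⊥) :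
    ∑ x : N with x ∈ Subgroup.centralizer (S : Set N), gq x = ∑ x : N, gq x := by
  have h1 : ∀ t : S, ∑ x : N, gq (x * t) = ∑ x : N, gq x := fun t =>
    Fintype.sum_equiv (Equiv.mulRight (t : N)) _ _ fun _ => rfl
  have h2 : ∑ t : S, ∑ x : N, gq (x * t) = (Nat.card S : ℤ) * ∑ x : N, gq x := by
    rw [Finset.sum_congr rfl fun t _ => h1 t, Finset.sum_const, Finset.card_univ, nsmul_eq_mul,
      Nat.card_eq_fintype_card]
  have h3 : ∑ t : S, ∑ x : N, gq (x * t) =
      ∑ x : N, gq x * (if x ∈ Subgroup.centralizer (S : Set N) then (Nat.card S : ℤ) else 0) := by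
    rw [Finset.sum_comm]
    refine Finset.sum_congr rfl fun x _ => ?_
    rw [← sum_kap H hz S x, Finset.mul_sum]
    refine Finset.sum_congr rfl fun t _ => ?_
    rw [gq_mul H hz, gq_eq_one H hS t.2, mul_one, kap_comm H hz]
  rw [h3] at h2
  have h4 : ∑ x : N, gq x * (if x ∈ Subgroup.centralizer (S : Set N) then (Nat.card S : ℤ) else 0) =
      (Nat.card S : ℤ) * ∑ x : N with x ∈ Subgroup.centralizer (S : Set N), gq x := by
    rw [Finset.mul_sum, Finset.sum_filter]
    refine Finset.sum_congr rfl fun x _ => ?_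
    split_ifs
    · rw [mul_comm]
    · rw [mul_zero]
  rw [h4] at h2
  have h5 : (Nat.card S : ℤ) ≠ 0 := by
    have := H.fin
    exact_mod_cast Nat.card_pos.ne'
  exact mul_left_cancel₀ h5 h2

open Classical in
/-- `T(1) ^ 2 = 2 |N|` -/
theorem sum_gq_sq [Fintype N] : (∑ x : N, gq x) ^ 2 = 2 * Nat.card N := by
  have h1 : (∑ x : N, gq x) ^ 2 = ∑ x : N, ∑ d : N, gq x * gq (x * d) := by
    rw [pow_two, Finset.sum_mul]
    refine Finset.sum_congr rfl fun x _ => ?_
    rw [Finset.mul_sum]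
    exact (Fintype.sum_equiv (Equiv.mulLeft x) _ _ fun _ => rfl).symm
  have h2 : ∀ x d : N, gq x * gq (x * d) = gq d * kap x d := by
    intro x d
    rw [gq_mul H hz]
    have := gq_mul_self (x := x)
    calc gq x * (gq x * gq d * kap x d) = (gq x * gq x) * (gq d * kap x d) := by ring
      _ = gq d * kap x d := by rw [this, one_mul]
  rw [h1, Finset.sum_comm]
  have h3 : ∀ d : N, ∑ x : N, gq x * gq (x * d) =
      gq d * (if d ∈ Subgroup.center N then (Nat.card N : ℤ) else 0) := by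
    intro d
    rw [Finset.sum_congr rfl fun x _ => h2 x d, ← Finset.mul_sum]
    congr 1
    have h4 := sum_kap H hz (⊤ : Subgroup N) d
    have h5 : ∑ x : (⊤ : Subgroup N), kap (x : N) d = ∑ x : N, kap x d :=
      Fintype.sum_equiv (Subgroup.topEquiv (G := N)).toEquiv _ _ fun _ => rfl
    rw [← h5, h4, Subgroup.card_top]
    have h6 : d ∈ Subgroup.centralizer (((⊤ : Subgroup N) : Set N)) ↔ d ∈ Subgroup.center N := by
      rw [Subgroup.coe_top, Subgroup.centralizer_univ]
    by_cases h : d ∈ Subgroup.center N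
    · rw [if_pos h, if_pos (h6.2 h)]
    · rw [if_neg h, if_neg fun h' => h (h6.1 h')]
  rw [Finset.sum_congr rfl fun d _ => h3 d]
  have h4 : ∀ d ∈ Subgroup.center N, gq d = 1 := by
    intro d hd
    have h5 : d ^ 2 = 1 := by
      have := pow_card_eq_one' (x := (⟨d, hd⟩ : Subgroup.center N))
      rw [hz] at this
      exact congrArg Subtype.val this
    unfold gq
    rw [h5, sgn_one]
  have h5 : ∑ d : N, gq d * (if d ∈ Subgroup.center N then (Nat.card N : ℤ) else 0) =
      ∑ d : N with d ∈ Subgroup.center N, (Nat.card N : ℤ) := by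
    rw [Finset.sum_filter]
    refine Finset.sum_congr rfl fun d _ => ?_
    split_ifs with h
    · rw [h4 d h, one_mul]
    · rw [mul_zero]
  rw [h5, Finset.sum_const, nsmul_eq_mul]
  congr 1
  have h6 : #{d : N | d ∈ Subgroup.center N} = 2 := by
    rw [← hz, Nat.card_eq_fintype_card, Fintype.card_subtype]
  rw [h6]
  rfl

/-- **A2, second part** -/
theorem sol_two_of (hcen : ∀ S : Subgroup N, S ⊓ Subgroup.center N = ⊥ →
      Nat.card (Subgroup.centralizer (S : Set N)) * Nat.card S = Nat.card N) :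
    ∃ σ : ℤ, (σ = 2 ^ a ∨ σ = -2 ^ a) ∧ ∀ S : Subgroup N, S ⊓ Subgroup.center N = ⊥ →
      (Nat.card (sol 2 S) : ℤ) * Nat.card S = 2 ^ (2 * a) + σ * Nat.card S := by
  classical
  have := H.fin
  have := Fintype.ofFinite N
  have hN : (Nat.card N : ℤ) = 2 ^ (2 * a + 1) := by
    have h1 := H.card
    rw [hz] at h1
    rw [h1]
    push_cast
    ring
  have hT := sum_gq_sq H hz
  set T : ℤ := ∑ x : N, gq x with hTd
  have hT2 : T ^ 2 = (2 ^ (a + 1)) ^ 2 := by
    rw [hT, hN]
    ring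
  obtain ⟨σ, hσ, hσT⟩ : ∃ σ : ℤ, (σ = 2 ^ a ∨ σ = -2 ^ a) ∧ T = 2 * σ := by
    rcases sq_eq_sq_iff_eq_or_eq_neg.1 hT2 with h | h
    · exact ⟨2 ^ a, Or.inl rfl, by rw [h]; ring⟩
    · exact ⟨-2 ^ a, Or.inr rfl, by rw [h]; ring⟩
  refine ⟨σ, hσ, fun S hS => ?_⟩
  have h1 := sum_gq H hz hS
  rw [← hTd, hσT] at h1
  -- `2 |sol| = |C| + T`
  have h2 : 2 * (Nat.card (sol 2 S) : ℤ) = Nat.card (Subgroup.centralizer (S : Set N)) + 2 * σ := by
    rw [← h1]
    have h3 : (Nat.card (Subgroup.centralizer (S : Set N)) : ℤ) =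
        ∑ x : N with x ∈ Subgroup.centralizer (S : Set N), (1 : ℤ) := by
      rw [Finset.sum_const, nsmul_eq_mul, mul_one, Nat.card_eq_fintype_card, Fintype.card_subtype]
    have h4 : (Nat.card (sol 2 S) : ℤ) =
        ∑ x : N with x ∈ Subgroup.centralizer (S : Set N), (if x ^ 2 = 1 then (1 : ℤ) else 0) := by
      rw [Finset.sum_ite, Finset.sum_const_zero, add_zero, Finset.sum_const, nsmul_eq_mul, mul_one,
        Finset.filter_filter]
      congr 1
      have h7 : Nat.card (sol 2 S) = Nat.card {x : N // x ∈ Subgroup.centralizer (S : Set N) ∧ x ^ 2 = 1} := rfl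
      rw [h7, Nat.card_eq_fintype_card, Fintype.card_subtype]
    rw [h3, h4, Finset.mul_sum, ← Finset.sum_add_distrib]
    refine Finset.sum_congr rfl fun x _ => ?_
    unfold gq sgn
    split_ifs <;> norm_num
  have h5 := hcen S hS
  have h6 : (Nat.card (Subgroup.centralizer (S : Set N)) : ℤ) * Nat.card S = 2 ^ (2 * a + 1) := by
    rw [← hN]
    exact_mod_cast h5
  have h7 : 2 * ((Nat.card (sol 2 S) : ℤ) * Nat.card S) = 2 * (2 ^ (2 * a) + σ * Nat.card S) := by
    calc 2 * ((Nat.card (sol 2 S) : ℤ) * Nat.card S) = (2 * (Nat.card (sol 2 S) : ℤ)) * Nat.card S := by ring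
      _ = (Nat.card (Subgroup.centralizer (S : Set N)) : ℤ) * Nat.card S + 2 * σ * Nat.card S := by rw [h2]; ring
      _ = 2 * (2 ^ (2 * a) + σ * Nat.card S) := by rw [h6]; ring
  exact mul_left_cancel₀ two_ne_zero h7

end two

end Cfsg.Agent.H990.HT
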