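import Cfsg.Agent.H990.HT.Sol
import Cfsg.Agent.H813.HT.A1

/-!
# S3540/S3577, task A2 (helper990)
-/

set_option autoImplicit false

namespace Cfsg.Agent.H990.HT

open Cfsg.Agent.H662.HT

universe u v

variable {s a : ℕ} {N : Type u} {V : Type v} [Group N] [AddCommGroup V] [DistribMulAction N V]

/-- A2 -/
theorem Sym_sol_full (H : Sym s a N V) (hF : Full s N) {S : Subgroup N} (hS : S ⊓ Subgroup.center N = ⊥) :
    Nat.card (sol s S) * Nat.card S = s ^ (2 * a + 1) :=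
  sol_full_of H hF (H813.HT.Sym_card_cen H hS)

/-- A2 -/
theorem Sym_sol_two (H : Sym 2 a N V) (hz : Nat.card (Subgroup.center N) = 2) :
    ∃ σ : ℤ, (σ = 2 ^ a ∨ σ = -2 ^ a) ∧ ∀ S : Subgroup N, S ⊓ Subgroup.center N = ⊥ →
      (Nat.card (sol 2 S) : ℤ) * Nat.card S = 2 ^ (2 * a) + σ * Nat.card S :=
  sol_two_of H hz fun _ hS => H813.HT.Sym_card_cen H hS

end Cfsg.Agent.H990.HT
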