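import Cfsg.Agent.H693.K6.RankThree
import Cfsg.Agent.H582.Sph.Base

/-!
# A constituent of a rank three permutation character in the principal block, refined form (helper990, S4933)

`exists_mem` : the colour `R` by the congruence `r ≡ k`, the other colour by non-essential pairs; with the invariance
under the automorphisms induced by permutations preserving `R`.
-/

set_option autoImplicit false
set_option linter.unusedSectionVars false

open Cfsg Cfsg.Agent.H816.IMEig Cfsg.Agent.H816.IMEig.Col Cfsg.Agent.Blocks.Fong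
open Cfsg.Agent.Characters.Core Cfsg.Agent.H690.Spor.RankThree Cfsg.Agent.H690.Spor.RankThree.R3 Cfsg.Agent.H968.Imc
open scoped BigOperators

namespace Cfsg.Agent.H990.HT.R3B0

open Cfsg.Agent.H61.K6 Cfsg.Agent.H693.K6

universe u v w

variable {G : Type v} [Group G] {X : Type w} [MulAction G X] {R : X → X → Prop} {k l : ℕ}

/-- `γ` is induced by a permutation preserving `R` -/
def Iso (R : X → X → Prop) (γ : G ≃* G) : Prop :=
  ∃ π : Equiv.Perm X, (∀ (g : G) (x : X), π (g • x) = γ g • π x) ∧ ∀ x y : X, R (π x) (π y) ↔ R x y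

/-- **A constituent of a rank three permutation character in the principal block.** -/
theorem exists_mem [Finite G] (h : R3 G X R k l) [Fintype X] [DecidableEq X] [DecidableRel R] {a b : ℕ}
    (hab : ∀ x y, ∑ z, adj R x z * adj R z y =
      (k - b : ℂ) * dia x y + (a - b : ℂ) * adj R x y + b) {r s : ℤ} (hrs : r ≠ s) (h1 : r + s = a - b)
    (h2 : r * s = b - k) {f : ℕ} (hf : (f : ℤ) * (r - s) = -(s * (k + l) + k)) {p : ℕ}
    (hp1 : (p : ℤ) ∣ r - k) (hp2 : ∀ x y, x ≠ y → ¬ R x y → H582.Sph.Ines p G x y) :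
    ∃ χ : IrrCharacter G, (∀ M : Ideal AlgInt, IsPModular p M → χ ∈ principalBlock M G) ∧
      charDegree (χ : G → ℂ) = f ∧ ∀ γ : G ≃* G, Iso R γ → ∀ g, (χ : G → ℂ) (γ g) = (χ : G → ℂ) g := by
  classical
  obtain ⟨χ, f', h3, h4, h5⟩ := exists_irr h hab hrs h1 h2
  have hrs0 : r - s ≠ 0 := sub_ne_zero.2 hrs
  have hff : f' = f := by
    have h6 : (f' : ℤ) * (r - s) = f * (r - s) := by rw [h5, hf]
    exact_mod_cast mul_right_cancel₀ hrs0 h6
  subst hff
  have hdeg : charDegree (χ : G → ℂ) = f' := Blocks.Basic.charDegree_of_eq h4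
  have hf0 : f' ≠ 0 := by
    intro h0
    have h6 := Blocks.Basic.irr_one_ne_zero χ.2
    rw [h4, h0] at h6
    exact h6 (by simp)
  have hn := h.cardn
  have hpar := h.params_eq hab
  have hnC : (Nat.card X : ℂ) = 1 + k + l := by exact_mod_cast hn
  have hn0 : (Nat.card X : ℂ) ≠ 0 := by
    have : Nat.card X ≠ 0 := by omega
    exact_mod_cast this
  have hne : Nonempty X := by
    rw [← Finite.card_pos_iff]
    omega
  have hk0 : (k : ℂ) ≠ 0 := by exact_mod_cast h.k0.ne'
  have hl0 : (l : ℂ) ≠ 0 := by exact_mod_cast h.l0.ne'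
  have hrsC : (r : ℂ) - s ≠ 0 := by exact_mod_cast hrs0
  have h1C : (r : ℂ) + s = a - b := by exact_mod_cast h1
  have h2C : (r : ℂ) * s = b - k := by exact_mod_cast h2
  have hpC : (k : ℂ) * k = k + k * a + l * b := by exact_mod_cast hpar
  have hfC : (f' : ℂ) * (r - s) = -(s * (k + l) + k) := by exact_mod_cast hf
  -- the value of the kernel
  set A : ℂ := (f' : ℂ) / (Nat.card X : ℂ) with hA
  have hA0 : A ≠ 0 := div_ne_zero (by exact_mod_cast hf0) hn0
  have hAn : A * Nat.card X = f' := by rw [hA]; field_simp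
  set om : Fin 3 → ℂ := ![1, (r : ℂ) / k, -(1 + r) / l] with hom
  have o0 : om 0 = 1 := rfl
  have o1 : om 1 = (r : ℂ) / k := rfl
  have o2 : om 2 = -(1 + (r : ℂ)) / l := rfl
  have hker : ∀ x y, ker R k (Nat.card X) (r : ℂ) (s : ℂ) x y = A * om (col R x y) := by
    intro x y
    have hmul : ∀ z w : ℂ, z * (Nat.card X * (r - s)) = w * (Nat.card X * (r - s)) → z = w := fun z w hzw =>
      mul_right_cancel₀ (mul_ne_zero hn0 hrsC) hzw
    apply hmul
    have e1 : A * om (col R x y) * (Nat.card X * (r - s)) = -(s * (k + l) + k) * om (col R x y) := by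
      rw [← hfC, ← hAn]
      ring
    have e2 : ker R k (Nat.card X) (r : ℂ) (s : ℂ) x y * (Nat.card X * (r - s)) =
        (adj R x y - s * dia x y) * Nat.card X - (k - s) := by
      unfold ker
      field_simp
    rw [e1, e2, hnC]
    by_cases hxy : x = y
    · subst hxy
      have e3 : col R x x = 0 := col_zero.2 rfl
      have e4 : adj R x x = 0 := by unfold adj; rw [if_neg (h.irr x)]
      have e5 : dia x x = 1 := by unfold dia; rw [if_pos rfl]
      rw [e3, e4, e5, o0]
      ring
    · have e5 : dia x y = 0 := by unfold dia; rw [if_neg hxy]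
      by_cases hR : R x y
      · have e3 : col R x y = 1 := (col_one h).2 hR
        have e4 : adj R x y = 1 := by unfold adj; rw [if_pos hR]
        rw [e3, e4, e5, o1]
        rw [← mul_right_inj' hk0]
        have e6 : (k : ℂ) * (-(s * (k + l) + k) * ((r : ℂ) / k)) = -(s * (k + l) + k) * r := by field_simp
        rw [e6]
        linear_combination ((k : ℂ) + l) * h2C + (k : ℂ) * h1C - hpC
      · have e3 : col R x y = 2 := (col_two h).2 ⟨hxy, hR⟩
        have e4 : adj R x y = 0 := by unfold adj; rw [if_neg hR]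
        rw [e3, e4, e5, o2]
        rw [← mul_right_inj' hl0]
        have e6 : (l : ℂ) * (-(s * (k + l) + k) * (-(1 + (r : ℂ)) / l)) = (s * (k + l) + k) * (1 + r) := by
          field_simp
        rw [e6]
        linear_combination (-((k : ℂ) + l)) * h2C - (k : ℂ) * h1C + hpC
  have hval : ∀ g, (χ : G → ℂ) g = A * ∑ x : X, om (col R x (g • x)) := by
    intro g
    rw [h3 g, Finset.mul_sum]
    exact Finset.sum_congr rfl fun x _ => hker x (g • x)
  refine ⟨χ, fun M hM => H582.Sph.mem_principal_of_sph' hM (isCol_r3 h) χ (a := A) (ω := om) hA0 rfl hval ?_, hdeg, ?_⟩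
  · have hp := hM.2.1.isPrime
    intro x u
    obtain ⟨m1, hm1⟩ := hp1
    have hint : ∀ m : ℤ, MemLocalIdeal M ((p : ℂ) * (m : ℂ)) := fun m => by
      refine lideal_mul_right hp (H582.Sph.lideal_prime hM) ?_
      simpa using lring_coe hp (m : AlgInt)
    have h3 : u = 0 ∨ u = 1 ∨ u = 2 := by revert u; decide
    rcases h3 with rfl | rfl | rfl
    · left
      rw [kk_zero]
      have : ((1 : ℕ) : ℂ) * om 0 - ((1 : ℕ) : ℂ) = (p : ℂ) * ((0 : ℤ) : ℂ) := by
        show ((1 : ℕ) : ℂ) * 1 - ((1 : ℕ) : ℂ) = _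
        push_cast
        ring
      rw [this]
      exact hint 0
    · left
      rw [kk_one h]
      have : (k : ℂ) * om 1 - k = (p : ℂ) * (m1 : ℂ) := by
        show (k : ℂ) * ((r : ℂ) / k) - k = _
        have h7 : (r : ℂ) - k = p * m1 := by exact_mod_cast hm1
        rw [← h7]
        field_simp
      rw [this]
      exact hint m1
    · right
      rw [kk_two h]
      have : (l : ℂ) * om 2 - l = ((-(1 + r + l) : ℤ) : ℂ) := by
        show (l : ℂ) * (-(1 + (r : ℂ)) / l) - l = _
        have h8 : (l : ℂ) * (-(1 + (r : ℂ)) / l) = -(1 + (r : ℂ)) := by field_simp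
        push_cast
        rw [h8]
        ring
      rw [this]
      refine ⟨by simpa using lring_coe hp ((-(1 + r + l) : ℤ) : AlgInt), ?_⟩
      intro x' y' hxy
      rw [col_two h] at hxy
      exact hp2 x' y' hxy.1 hxy.2
  · rintro γ ⟨π, hπ1, hπ2⟩ g
    rw [hval, hval]
    congr 1
    rw [← Equiv.sum_comp π]
    refine Finset.sum_congr rfl fun x _ => ?_
    rw [← hπ1]
    congr 1
    unfold col
    simp only [EmbeddingLike.apply_eq_iff_eq, hπ2]

end Cfsg.Agent.H990.HT.R3B0
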