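import Cfsg.Agent.H990.HT.O8Fix
import Cfsg.Agent.H990.HT.R3B0
import Cfsg.Agent.ClassicalGeometry.OrthDickson

/-!
# The rank three character of `O8-(q)`, `q ≡ 2` modulo `3`, in the principal `3`-block (helper990, S4933)
-/

set_option autoImplicit false
set_option linter.unusedSectionVars false

namespace Cfsg.Agent.H990.HT.O8

open Module QuadraticMap Cfsg Cfsg.Agent.H2.Pol Cfsg.Agent.H674.BR Cfsg.Agent.H410.BR
open Cfsg.Agent.LieClassical Cfsg.Agent.LieClassical.OrthCore Cfsg.Agent.LieClassical.OrthTrans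
  Cfsg.Agent.LieClassical.OrthFinite Cfsg.Agent.LieClassical.OrthForms

section Geo

variable {F V : Type*} [Field F] [Finite F] [AddCommGroup V] [Module F V] [FiniteDimensional F V]
  {Q : QuadraticForm F V}

/-- the point of a singular vector -/
def pt {u : V} (hu : u ≠ 0) (hQ : Q u = 0) : (quadPol Q).X 1 :=
  ⟨F ∙ u, ti_of_sing Q (fun x hx => by
    obtain ⟨a, rfl⟩ := Submodule.mem_span_singleton.1 hx
    rw [QuadraticMap.map_smul, hQ, smul_zero]), finrank_span_singleton hu⟩

theorem exists_vec (U : (quadPol Q).X 1) : ∃ u : V, ∃ (hu : u ≠ 0) (hQ : Q u = 0), U = pt hu hQ := by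
  obtain ⟨u, hu0, hu⟩ := finrank_eq_one_iff'.1 U.2.2
  have hu0' : (u : V) ≠ 0 := fun h => hu0 (Subtype.ext h)
  refine ⟨u, hu0', U.2.1.1 u u.2, Subtype.ext ?_⟩
  show U.1 = F ∙ (u : V)
  apply le_antisymm
  · intro v hv
    obtain ⟨c, hc⟩ := hu ⟨v, hv⟩
    exact Submodule.mem_span_singleton.2 ⟨c, congrArg Subtype.val hc⟩
  · exact (Submodule.span_singleton_le_iff_mem _ _).2 u.2

theorem card_ne_zero (U : (quadPol Q).X 1) : Nat.card {v : U.1 // v ≠ 0} = Nat.card F - 1 := by
  classical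
  have : Finite U.1 := Module.finite_of_finite F
  have := Fintype.ofFinite U.1
  have h1 : Nat.card U.1 = Nat.card F := by
    rw [Module.natCard_eq_pow_finrank (K := F), U.2.2, pow_one]
  rw [← h1]
  have h2 := Nat.card_congr (Equiv.optionSubtypeNe (0 : U.1))
  rw [Finite.card_option] at h2
  omega

theorem card_points (T : Submodule F V) :
    Nat.card {v : V // (quadPol Q).sing v ∧ v ∈ T} =
      Nat.card {U : (quadPol Q).X 1 // U.1 ≤ T} * (Nat.card F - 1) + 1 := by
  classical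
  have hV : Finite V := Module.finite_of_finite F
  have h1 : Nat.card {v : V // (quadPol Q).sing v ∧ v ∈ T} =
      Nat.card {v : V // v ≠ 0 ∧ Q v = 0 ∧ v ∈ T} + 1 := by
    rw [← Finite.card_option]
    refine Nat.card_congr ⟨fun u => if hu : u.1 = 0 then none else some ⟨u.1, hu, u.2.1, u.2.2⟩,
      fun o => o.elim ⟨0, QuadraticMap.map_zero Q, T.zero_mem⟩ fun u => ⟨u.1, u.2.2.1, u.2.2.2⟩, fun u => ?_, fun o => ?_⟩
    · by_cases hu : u.1 = 0
      · simp only [hu, dif_pos, Option.elim]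
        exact Subtype.ext hu.symm
      · simp only [hu, dif_neg, not_false_iff, Option.elim]
    · cases o with
      | none => simp
      | some u =>
        have hu : u.1 ≠ 0 := u.2.1
        simp [hu]
  rw [h1]
  congr 1
  let f : {v : V // v ≠ 0 ∧ Q v = 0 ∧ v ∈ T} → {U : (quadPol Q).X 1 // U.1 ≤ T} := fun v =>
    ⟨pt v.2.1 v.2.2.1, (Submodule.span_singleton_le_iff_mem _ _).2 v.2.2.2⟩
  rw [Nat.card_congr (Equiv.sigmaFiberEquiv f).symm]
  have := Fintype.ofFinite {U : (quadPol Q).X 1 // U.1 ≤ T}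
  rw [Nat.card_sigma, Finset.sum_congr rfl (g := fun _ => Nat.card F - 1) fun U _ => ?_, Finset.sum_const,
    Finset.card_univ, smul_eq_mul, Nat.card_eq_fintype_card (α := {U : (quadPol Q).X 1 // U.1 ≤ T})]
  rw [← card_ne_zero U.1]
  refine Nat.card_congr ⟨fun v => ⟨⟨v.1.1, ?_⟩, fun h => v.1.2.1 (congrArg Subtype.val h)⟩,
    fun v => ⟨⟨v.1.1, fun h => v.2 (Subtype.ext h), U.1.2.1.1 _ v.1.2, U.2 v.1.2⟩, ?_⟩, fun v => rfl, fun v => rfl⟩
  · have h2 := v.2
    have h3 : F ∙ v.1.1 = U.1.1 := congrArg (fun W : {U : (quadPol Q).X 1 // U.1 ≤ T} => W.1.1) h2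
    rw [← h3]
    exact Submodule.mem_span_singleton_self _
  · apply Subtype.ext
    apply Subtype.ext
    have h0 : (v.1.1 : V) ≠ 0 := fun h => v.2 (Subtype.ext h)
    have h2 : F ∙ v.1.1 ≤ U.1.1 := (Submodule.span_singleton_le_iff_mem _ _).2 v.1.2
    exact Submodule.eq_of_le_of_finrank_eq h2 ((finrank_span_singleton h0).trans U.1.2.2.symm)

omit [Finite F] [FiniteDimensional F V] in
theorem orth_pt {u v : V} (hu : u ≠ 0) (hQu : Q u = 0) (hv : v ≠ 0) (hQv : Q v = 0) :
    (quadPol Q).Orth (pt hu hQu).1 (pt hv hQv).1 ↔ polar Q u v = 0 := by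
  constructor
  · intro h
    exact h u (Submodule.mem_span_singleton_self _) v (Submodule.mem_span_singleton_self _)
  · rintro h x hx y hy
    obtain ⟨a, rfl⟩ := Submodule.mem_span_singleton.1 hx
    obtain ⟨b, rfl⟩ := Submodule.mem_span_singleton.1 hy
    show polar Q (a • u) (b • v) = 0
    rw [polar_smul_left, polar_smul_right, h, smul_zero, smul_zero]

omit [Finite F] [FiniteDimensional F V] in
theorem orth_symm {U W : Submodule F V} (h : (quadPol Q).Orth U W) : (quadPol Q).Orth W U := fun x hx y hy =>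
  (quadPol Q).refl _ _ (h y hy x hx)

/-- collinearity -/
def Co (U W : (quadPol Q).X 1) : Prop := U ≠ W ∧ (quadPol Q).Orth U.1 W.1

theorem inf_eq_bot {U W : (quadPol Q).X 1} (h : U ≠ W) : U.1 ⊓ W.1 = ⊥ := by
  by_contra h0
  have h1 : finrank F ↥(U.1 ⊓ W.1) ≠ 0 := fun h1 => h0 (Submodule.finrank_eq_zero.1 h1)
  have h2 : U.1 ⊓ W.1 = U.1 := Submodule.eq_of_le_of_finrank_le inf_le_left (by rw [U.2.2]; omega)
  have h3 : U.1 ⊓ W.1 = W.1 := Submodule.eq_of_le_of_finrank_le inf_le_right (by rw [W.2.2]; omega)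
  exact h (Subtype.ext (h2.symm.trans h3))

theorem finrank_inf_perp {U W : (quadPol Q).X 1} (h : (quadPol Q).Orth U.1 W.1) :
    finrank F ↥(W.1 ⊓ (quadPol Q).perp U.1) = 1 := by
  rw [inf_of_le_left, W.2.2]
  exact ((quadPol Q).orth_iff_le_perp).1 (orth_symm h)

theorem finrank_inf_perp' {U W : (quadPol Q).X 1} (h : ¬ (quadPol Q).Orth U.1 W.1) :
    finrank F ↥(W.1 ⊓ (quadPol Q).perp U.1) = 0 := by
  by_contra h1
  have h2 : W.1 ⊓ (quadPol Q).perp U.1 = W.1 := Submodule.eq_of_le_of_finrank_le inf_le_left (by rw [W.2.2]; omega)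
  exact h (orth_symm (((quadPol Q).orth_iff_le_perp).2 (inf_eq_left.1 h2)))

variable (h : Typ Q 3 2)
include h

theorem card_all : Nat.card ((quadPol Q).X 1) = 1 + Nat.card F * (Nat.card F + 1) * (Nat.card F ^ 3 + 1) + Nat.card F ^ 6 := by
  have h1 := h.card_perp (U := ⊥) (quadPol Q).TI_bot (k := 0) (finrank_bot F V) (by omega)
  have h2 := card_points (Q := Q) ((quadPol Q).perp ⊥)
  rw [h1] at h2
  have h3 : Nat.card {U : (quadPol Q).X 1 // U.1 ≤ (quadPol Q).perp ⊥} = Nat.card ((quadPol Q).X 1) := by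
    refine Nat.card_congr (Equiv.subtypeUnivEquiv fun U => ?_)
    intro v _
    rw [(quadPol Q).mem_perp]
    intro x hx
    rw [(Submodule.mem_bot F).1 hx]
    exact (quadPol Q).refl _ _ (map_zero _)
  rw [h3] at h2
  have hq1 : 1 < Nat.card F := Finite.one_lt_card
  obtain ⟨q, hq⟩ : ∃ q, Nat.card F = q + 1 := ⟨Nat.card F - 1, by omega⟩
  rw [hq] at h2 ⊢
  have hq0 : 0 < q := by omega
  have hp : 1 ≤ (q + 1) ^ 3 := Nat.one_le_pow _ _ (by omega)
  apply Nat.eq_of_mul_eq_mul_right hq0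
  have h4 : (q + 1) ^ (3 - 0) - 1 = q * (q ^ 2 + 3 * q + 3) := by
    have : (q + 1) ^ 3 = q * (q ^ 2 + 3 * q + 3) + 1 := by ring
    rw [Nat.sub_zero, this]
    rfl
  rw [h4, show q + 1 - 1 = q from rfl, show 3 - 1 - 0 + 2 = 4 from rfl] at h2
  linarith

theorem card_co (U : (quadPol Q).X 1) : Nat.card {W // Co U W} = Nat.card F * (Nat.card F + 1) * (Nat.card F ^ 3 + 1) := by
  classical
  have hV : Finite V := Module.finite_of_finite F
  have h1 := h.card_perp (U := U.1) U.2.1 (k := 1) U.2.2 (by omega)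
  have h2 := card_points (Q := Q) ((quadPol Q).perp U.1)
  rw [h1] at h2
  have h3 : Nat.card {W : (quadPol Q).X 1 // W.1 ≤ (quadPol Q).perp U.1} = Nat.card {W // Co U W} + 1 := by
    rw [← Finite.card_option]
    refine Nat.card_congr ⟨fun W => if hu : W.1 = U then none else some ⟨W.1, fun h => hu h.symm,
      orth_symm (((quadPol Q).orth_iff_le_perp).2 W.2)⟩,
      fun o => o.elim ⟨U, ((quadPol Q).orth_iff_le_perp).1 U.2.1.2⟩ fun W => ⟨W.1,
        ((quadPol Q).orth_iff_le_perp).1 (orth_symm W.2.2)⟩, fun W => ?_, fun o => ?_⟩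
    · by_cases hu : W.1 = U
      · simp only [hu, dif_pos, Option.elim]
        exact Subtype.ext hu.symm
      · simp only [hu, dif_neg, not_false_iff, Option.elim]
    · cases o with
      | none => simp
      | some W =>
        have hu : W.1 ≠ U := fun h => W.2.1 h.symm
        simp [hu]
  rw [h3] at h2
  have hq1 : 1 < Nat.card F := Finite.one_lt_card
  obtain ⟨q, hq⟩ : ∃ q, Nat.card F = q + 1 := ⟨Nat.card F - 1, by omega⟩
  rw [hq] at h2 ⊢
  have hq0 : 0 < q := by omega
  apply Nat.eq_of_mul_eq_mul_right hq0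
  have h4 : (q + 1) ^ (3 - 1) - 1 = q * (q + 2) := by
    have : (q + 1) ^ 2 = q * (q + 2) + 1 := by ring
    rw [show 3 - 1 = 2 from rfl, this]
    rfl
  rw [h4, show q + 1 - 1 = q from rfl, show 3 - 1 - 1 + 2 = 3 from rfl] at h2
  linarith

theorem card_com {U U' : (quadPol Q).X 1} (hU : Co U U') :
    Nat.card {W // Co U W ∧ Co W U'} + 1 = Nat.card F ^ 4 + Nat.card F ^ 2 + Nat.card F := by
  classical
  have hV : Finite V := Module.finite_of_finite F
  have hT : (quadPol Q).TI (U.1 ⊔ U'.1) := by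
    apply ti_of_sing
    intro z hz
    obtain ⟨u, hu, v, hv, rfl⟩ := Submodule.mem_sup.1 hz
    have e1 : Q u = 0 := U.2.1.1 u hu
    have e2 : Q v = 0 := U'.2.1.1 v hv
    have e3 : polar Q u v = 0 := hU.2 u hu v hv
    rw [Q_add, e1, e2, e3, add_zero, add_zero]
  have hf : finrank F ↥(U.1 ⊔ U'.1) = 2 := by
    have h1 := Submodule.finrank_sup_add_finrank_inf_eq U.1 U'.1
    rw [inf_eq_bot hU.1, finrank_bot, U.2.2, U'.2.2] at h1
    omega
  have h1 := h.card_perp hT (k := 2) hf (by omega)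
  have h2 := card_points (Q := Q) ((quadPol Q).perp (U.1 ⊔ U'.1))
  rw [h1] at h2
  have hle : ∀ W : Submodule F V, W ≤ (quadPol Q).perp (U.1 ⊔ U'.1) ↔ (quadPol Q).Orth U.1 W ∧ (quadPol Q).Orth W U'.1 := by
    intro W
    constructor
    · intro hW
      exact ⟨orth_symm fun x hx y hy => ((quadPol Q).orth_iff_le_perp.2 hW) x hx y (Submodule.mem_sup_left hy),
        fun x hx y hy => ((quadPol Q).orth_iff_le_perp.2 hW) x hx y (Submodule.mem_sup_right hy)⟩
    · rintro ⟨hW1, hW2⟩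
      rw [← (quadPol Q).orth_iff_le_perp]
      intro x hx y hy
      obtain ⟨u, hu, v, hv, rfl⟩ := Submodule.mem_sup.1 hy
      have e1 : polar Q x u = 0 := orth_symm hW1 x hx u hu
      have e2 : polar Q x v = 0 := hW2 x hx v hv
      show polar Q x (u + v) = 0
      rw [polar_add_right, e1, e2, add_zero]
  have h3 : Nat.card {W : (quadPol Q).X 1 // W.1 ≤ (quadPol Q).perp (U.1 ⊔ U'.1)} =
      Nat.card {W // Co U W ∧ Co W U'} + 1 + 1 := by
    rw [← Finite.card_option, ← Finite.card_option]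
    refine Nat.card_congr ⟨fun W => if hu : W.1 = U then none else if hu' : W.1 = U' then some none else
      some (some ⟨W.1, ⟨fun h => hu h.symm, ((hle _).1 W.2).1⟩, ⟨hu', ((hle _).1 W.2).2⟩⟩),
      fun o => o.elim ⟨U, (hle _).2 ⟨U.2.1.2, hU.2⟩⟩ fun o => o.elim ⟨U', (hle _).2 ⟨hU.2, U'.2.1.2⟩⟩ fun W => ⟨W.1,
        (hle _).2 ⟨W.2.1.2, W.2.2.2⟩⟩, fun W => ?_, fun o => ?_⟩
    · by_cases hu : W.1 = U
      · simp only [hu, dif_pos, Option.elim]
        exact Subtype.ext hu.symm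
      · by_cases hu' : W.1 = U'
        · simp only [hu', dif_pos, dif_neg hU.1.symm, Option.elim]
          exact Subtype.ext hu'.symm
        · simp only [hu, hu', dif_neg, not_false_iff, Option.elim]
    · rcases o with _ | _ | W
      · simp
      · simp [hU.1.symm]
      · have hu : W.1 ≠ U := fun h => W.2.1.1 h.symm
        have hu' : W.1 ≠ U' := W.2.2.1
        simp [hu, hu']
  rw [h3] at h2
  have hq1 : 1 < Nat.card F := Finite.one_lt_card
  obtain ⟨q, hq⟩ : ∃ q, Nat.card F = q + 1 := ⟨Nat.card F - 1, by omega⟩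
  rw [hq] at h2 ⊢
  have hq0 : 0 < q := by omega
  apply Nat.eq_of_mul_eq_mul_right hq0
  rw [show 3 - 2 = 1 from rfl, pow_one, show q + 1 - 1 = q from rfl, show 3 - 1 - 2 + 2 = 2 from rfl] at h2
  linarith

end Geo

section Alg

variable {F V : Type} [Field F] [Finite F] [AddCommGroup V] [Module F V] [FiniteDimensional F V]

theorem even_contra {R₀ : Subgroup (V ≃ₗ[F] V)} (h3 : IsPGroup 3 R₀) (hq : Nat.card F % 3 = 2) {K : Submodule F V}
    (hK : ∀ g ∈ R₀, ∀ v ∈ K, g v ∈ K) {e : V} (he : e ≠ 0) (heK : e ∈ K) (heR : ∀ g ∈ R₀, g e = e)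
    (hf : ∀ v ∈ K, (∀ g ∈ R₀, g v = v) → ∃ a : F, v = a • e) (hev : Even (finrank F K)) : False := by
  have : Fact (Nat.Prime 3) := ⟨Nat.prime_three⟩
  have hV : Finite V := Module.finite_of_finite F
  let _ : MulAction R₀ K :=
    { smul := fun g v => ⟨g.1 v.1, hK _ g.2 _ v.2⟩
      one_smul := fun v => rfl
      mul_smul := fun g k v => rfl }
  have h1 := h3.card_modEq_card_fixedPoints K
  have h2 : Nat.card (MulAction.fixedPoints R₀ K) = Nat.card F := by
    symm
    refine Nat.card_congr (Equiv.ofBijective (fun a : F => ⟨⟨a • e, K.smul_mem a heK⟩, fun g => Subtype.ext ?_⟩)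
      ⟨fun a b hab => ?_, fun v => ?_⟩)
    · show g.1 (a • e) = a • e
      rw [LinearEquiv.map_smul, heR _ g.2]
    · have h4 : a • e = b • e := congrArg (fun v : MulAction.fixedPoints R₀ K => (v.1.1 : V)) hab
      exact smul_left_injective F he h4
    · obtain ⟨a, ha⟩ := hf v.1.1 v.1.2 fun g hg => congrArg Subtype.val (v.2 ⟨g, hg⟩)
      exact ⟨a, Subtype.ext (Subtype.ext ha.symm)⟩
  rw [h2, Module.natCard_eq_pow_finrank (K := F)] at h1
  obtain ⟨m, hm⟩ := hev
  have h5 : Nat.card F ^ finrank F K ≡ 1 [MOD 3] := by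
    rw [hm, ← two_mul, pow_mul]
    have h6 : Nat.card F ^ 2 ≡ 1 [MOD 3] := by
      have : Nat.card F ≡ 2 [MOD 3] := hq
      exact (this.pow 2).trans (by decide)
    exact (h6.pow m).trans (by rw [one_pow])
  have h7 : Nat.card F ≡ 1 [MOD 3] := h1.symm.trans h5
  have h8 : Nat.card F % 3 = 1 % 3 := h7
  omega

end Alg

section Grp

variable {F : Type} [Field F] [Finite F] {ι : Type} [Fintype ι] [DecidableEq ι] {Q : QuadraticForm F (ι → F)}

/-- the action of `S` on the points -/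
@[reducible] noncomputable def ptAct (hG : Good Q) : MulAction (Cfsg.POmega F ⇑Q) ((quadPol Q).X 1) :=
  (om_model hG).mulAction 1

theorem r3 (h : Typ Q 3 2) (hG : Good Q) :
    letI := ptAct hG
    Cfsg.Agent.H690.Spor.RankThree.R3 (Cfsg.POmega F ⇑Q) ((quadPol Q).X 1) Co
      (Nat.card F * (Nat.card F + 1) * (Nat.card F ^ 3 + 1)) (Nat.card F ^ 6) := by
  let _ := ptAct hG
  have hq1 : 1 < Nat.card F := Finite.one_lt_card
  have hact : ∀ (g : Cfsg.Omega F ⇑Q) (U : (quadPol Q).X 1),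
      (QuotientGroup.mk' (Subgroup.center (Cfsg.Omega F ⇑Q)) g) • U = (om_acts hG).act 1 g U :=
    (om_model hG).smul_eq 1
  exact {
    trans := (om_model hG).pretransitive 1 (om_trans h hG (Or.inl two_ne_zero))
    symm := fun x y hxy => ⟨hxy.1.symm, orth_symm hxy.2⟩
    irr := fun x hx => hx.1 rfl
    inv := fun g x y hxy => by
      obtain ⟨g, rfl⟩ := (om_model hG).surj g
      refine ⟨fun he => hxy.1 (smul_left_cancel _ he), ?_⟩
      rw [hact, hact]
      rintro _ ⟨u, hu, rfl⟩ _ ⟨v, hv, rfl⟩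
      exact (om_acts hG).orth g u v (hxy.2 u hu v hv)
    one := fun x y x' y' h1 h2 => by
      obtain ⟨g, hg1, hg2⟩ := om_pair_of_lt h hG (Or.inl two_ne_zero) x x' y y'
        (by rw [inf_eq_bot h1.1, inf_eq_bot h2.1])
        (by rw [finrank_inf_perp h1.2, finrank_inf_perp h2.2])
      exact ⟨QuotientGroup.mk' _ g, by rw [hact, hg1], by rw [hact, hg2]⟩
    two := fun x y x' y' h1 h1' h2 h2' => by
      obtain ⟨g, hg1, hg2⟩ := om_pair_of_lt h hG (Or.inl two_ne_zero) x x' y y'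
        (by rw [inf_eq_bot h1, inf_eq_bot h2])
        (by rw [finrank_inf_perp' fun h3 => h1' ⟨h1, h3⟩, finrank_inf_perp' fun h3 => h2' ⟨h2, h3⟩])
      exact ⟨QuotientGroup.mk' _ g, by rw [hact, hg1], by rw [hact, hg2]⟩
    cardk := card_co h
    k0 := by positivity
    l0 := by positivity
    cardn := card_all h }

theorem ines (h : Typ Q 3 2) (hG : Good Q) (hq : Nat.card F % 3 = 2) (hι : 5 ≤ Fintype.card ι)
    (x y : (quadPol Q).X 1) (hxy : x ≠ y) (hR : ¬ Co x y) :
    letI := ptAct hG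
    H582.Sph.Ines 3 (Cfsg.POmega F ⇑Q) x y := by
  let _ := ptAct hG
  have : Fintype F := Fintype.ofFinite F
  have hact : ∀ (g : Cfsg.Omega F ⇑Q) (U : (quadPol Q).X 1),
      (QuotientGroup.mk' (Subgroup.center (Cfsg.Omega F ⇑Q)) g) • U = (om_acts hG).act 1 g U :=
    (om_model hG).smul_eq 1
  obtain ⟨u, hu, hQu, rfl⟩ := exists_vec x
  obtain ⟨w, hw, hQw, rfl⟩ := exists_vec y
  have huw : polar Q u w ≠ 0 := fun h0 => hR ⟨hxy, (orth_pt hu hQu hw hQw).2 h0⟩
  obtain ⟨R₀, hR3, hRO, hRf, hRfix⟩ := exists_three h hq hQu hQw huw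
  -- `R₀` lies in `E Q`
  have hodd : ∀ {M : Type} [Group M] (g : M) (n : ℕ), g ^ 3 ^ n = 1 → ∃ m : ℕ, g = g ^ m * g ^ m := by
    intro M _ g n hg
    have h1 : Odd (3 ^ n) := Odd.pow (by decide)
    obtain ⟨m, hm⟩ := h1
    refine ⟨m + 1, ?_⟩
    rw [← pow_add, show m + 1 + (m + 1) = 2 * m + 1 + 1 by ring, ← hm, pow_succ, hg, one_mul]
  have hRE : R₀ ≤ E Q := by
    intro g hg
    obtain ⟨n, hn⟩ := hR3 ⟨g, hg⟩
    have hn' : g ^ 3 ^ n = 1 := congrArg Subtype.val hn
    obtain ⟨m, hm⟩ := hodd g n hn'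
    rw [hm]
    exact sq_mem_E hG ((O Q).pow_mem (hRO hg) m)
  set R₁ : Subgroup (Cfsg.Omega F ⇑Q) := R₀.comap (omRho Q) with hR₁
  have hR₁3 : IsPGroup 3 R₁ := hR3.comap_of_injective _ (omRho_injective Q)
  have hfixpt : ∀ (g : Cfsg.Omega F ⇑Q) (v : ι → F) (hv : v ≠ 0) (hQv : Q v = 0), omRho Q g v = v →
      (om_acts hG).act 1 g (pt hv hQv) = pt hv hQv := by
    intro g v hv hQv hg
    apply Subtype.ext
    show (F ∙ v).map (omRho Q g : (ι → F) →ₗ[F] (ι → F)) = F ∙ v
    rw [Submodule.map_span, Set.image_singleton]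
    show F ∙ (omRho Q g v) = F ∙ v
    rw [hg]
  refine ⟨R₁.map (QuotientGroup.mk' _), hR₁3.map _, ?_, ?_, ?_⟩
  · rintro _ ⟨g, hg, rfl⟩
    rw [hact]
    exact hfixpt g u hu hQu (hRf _ hg).1
  · rintro _ ⟨g, hg, rfl⟩
    rw [hact]
    exact hfixpt g w hw hQw (hRf _ hg).2
  · intro k' hk' hkx
    obtain ⟨k, rfl⟩ := (om_model hG).surj k'
    rw [hact] at hkx
    -- `k` commutes with `R₁`
    have hcomm : ∀ r ∈ R₁, r * k = k * r := by
      intro r hr
      have h1 : QuotientGroup.mk' (Subgroup.center (Cfsg.Omega F ⇑Q)) (r * k) =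
          QuotientGroup.mk' (Subgroup.center (Cfsg.Omega F ⇑Q)) (k * r) := by
        rw [map_mul, map_mul]
        exact Subgroup.mem_centralizer_iff.1 hk' _ ⟨r, hr, rfl⟩
      have h2 : r⁻¹ * (k * r * k⁻¹) ∈ Subgroup.center (Cfsg.Omega F ⇑Q) := by
        rw [← QuotientGroup.eq_one_iff]
        show QuotientGroup.mk' (Subgroup.center (Cfsg.Omega F ⇑Q)) (r⁻¹ * (k * r * k⁻¹)) = 1
        rw [map_mul, map_mul, ← h1, map_mul, map_inv, map_inv, mul_inv_cancel_right, inv_mul_cancel]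
      set z := r⁻¹ * (k * r * k⁻¹) with hz
      have h3 : k * r * k⁻¹ = r * z := by rw [hz, mul_inv_cancel_left]
      have h4 := center_sq hG h2
      obtain ⟨n, hn⟩ := hR₁3 ⟨r, hr⟩
      have hn' : r ^ 3 ^ n = 1 := congrArg Subtype.val hn
      have hcz : Commute r z := (Subgroup.mem_center_iff.1 h2 r)
      have h5 : (k * r * k⁻¹) ^ 3 ^ n = 1 := by
        rw [conj_pow, hn', mul_one, mul_inv_cancel]
      rw [h3, hcz.mul_pow, hn', one_mul] at h5
      obtain ⟨m, hm⟩ := hodd z n h5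
      have h6 : z = 1 := by
        rw [hm, ← (Commute.refl z).mul_pow, h4, one_pow]
      rw [h6, mul_one] at h3
      calc r * k = k * r * k⁻¹ * k := by rw [h3]
        _ = k * r := inv_mul_cancel_right _ _
    have hkO : omRho Q k ∈ O Q := E_le_O (omRho_mem_E hG k)
    have hcomm' : ∀ g ∈ R₀, ∀ v, g (omRho Q k v) = omRho Q k (g v) := by
      intro g hg v
      obtain ⟨r, rfl⟩ := exists_om hG (hRE hg)
      have h1 := congrArg (fun z => omRho Q z v) (hcomm r hg)
      simp only [map_mul, LinearEquiv.mul_apply] at h1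
      exact h1
    have hind : ∀ a b : F, a • u + b • w = 0 → a = 0 ∧ b = 0 := by
      intro a b hab
      have e1 : polar Q u u = 0 := polar_self_of_sing hQu
      have e2 : polar Q w w = 0 := polar_self_of_sing hQw
      have e3 : polar Q w u = polar Q u w := polar_comm _ _ _
      have h1 := congrArg (polar Q u) hab
      have h2 := congrArg (polar Q w) hab
      rw [polar_add_right, polar_smul_right, polar_smul_right, e1, smul_zero, zero_add, polar_zero_right,
        smul_eq_mul] at h1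
      rw [polar_add_right, polar_smul_right, polar_smul_right, e2, e3, smul_zero, add_zero, polar_zero_right,
        smul_eq_mul] at h2
      exact ⟨(mul_eq_zero.1 h2).resolve_right huw, (mul_eq_zero.1 h1).resolve_right huw⟩
    -- `k u = α w`
    have hku : omRho Q k u ∈ F ∙ w := by
      have h1 : (F ∙ u).map (omRho Q k : (ι → F) →ₗ[F] (ι → F)) = F ∙ w := congrArg Subtype.val hkx
      rw [← h1]
      exact ⟨u, Submodule.mem_span_singleton_self _, rfl⟩
    obtain ⟨α, hα⟩ := Submodule.mem_span_singleton.1 hku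
    have hα0 : α ≠ 0 := by
      rintro rfl
      rw [zero_smul] at hα
      exact hu ((omRho Q k).injective (hα.symm.trans (map_zero _).symm))
    obtain ⟨c, d, hcd⟩ := hRfix (omRho Q k w) fun g hg => by rw [hcomm' g hg, (hRf g hg).2]
    have hQk : Q (omRho Q k w) = 0 := by rw [hkO w, hQw]
    have hpk := polar_map hkO u w
    rw [← hα, hcd, polar_smul_left, polar_add_right, polar_smul_right, polar_smul_right, polar_self_of_sing hQw,
      smul_zero, add_zero, polar_comm Q w u, smul_eq_mul, smul_eq_mul, ← mul_assoc] at hpk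
    have hαc : α * c = 1 := mul_right_cancel₀ huw (hpk.trans (one_mul _).symm)
    have hc0 : c ≠ 0 := by
      rintro rfl
      rw [mul_zero] at hαc
      exact zero_ne_one hαc
    have hd0 : d = 0 := by
      rw [hcd, Q_add, QuadraticMap.map_smul, QuadraticMap.map_smul, hQu, hQw, smul_zero, smul_zero, zero_add,
        zero_add, polar_smul_left, polar_smul_right, smul_eq_mul, smul_eq_mul] at hQk
      exact (mul_eq_zero.1 ((mul_eq_zero.1 hQk).resolve_left hc0)).resolve_right huw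
    rw [hd0, zero_smul, add_zero] at hcd
    -- the fixed space
    have hdim : Even (Fintype.card ι) := by
      have := h.dim
      rw [finrank_fintype_fun_eq_card] at this
      rw [this]
      decide
    have hev : Even (finrank F (Cfsg.Agent.ClassicalGeometry.OrthCharTwo.fixSp k.1)) := by
      have h1 := Cfsg.Agent.ClassicalGeometry.OrthDickson.dsign_eq_one_of_mem_commutator Q
        (Cfsg.Agent.H377.nondegenerate_of_nondeg h.nondeg) (Or.inr (by omega)) k.1 k.2
      rw [Cfsg.Agent.ClassicalGeometry.OrthDickson.dsign_def] at h1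
      have h4 : Even (finrank F (Cfsg.Agent.ClassicalGeometry.OrthCharTwo.fixSp k.1) + Fintype.card ι) := by
        by_contra hne
        rw [Nat.not_even_iff_odd] at hne
        rw [hne.neg_one_pow] at h1
        exact absurd h1 (by decide)
      exact (Nat.even_add.1 h4).2 hdim
    have hmem : ∀ v, v ∈ Cfsg.Agent.ClassicalGeometry.OrthCharTwo.fixSp k.1 ↔ omRho Q k v = v := fun v => Iff.rfl
    refine even_contra hR3 hq (K := Cfsg.Agent.ClassicalGeometry.OrthCharTwo.fixSp k.1) (e := u + α • w) ?_ ?_ ?_ ?_ ?_ hev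
    · intro g hg v hv
      rw [hmem] at hv ⊢
      rw [← hcomm' g hg, hv]
    · intro h0
      have h1 : (1 : F) • u + α • w = 0 := by rw [one_smul, h0]
      exact one_ne_zero (hind _ _ h1).1
    · rw [hmem, map_add, LinearEquiv.map_smul, ← hα, hcd, smul_smul, hαc, one_smul, add_comm]
    · intro g hg
      rw [map_add, LinearEquiv.map_smul, (hRf g hg).1, (hRf g hg).2]
    · intro v hv hfix
      obtain ⟨a, b, rfl⟩ := hRfix v hfix
      rw [hmem, map_add, LinearEquiv.map_smul, LinearEquiv.map_smul, ← hα, hcd, smul_smul, smul_smul] at hv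
      have h1 : (b * c - a) • u + (a * α - b) • w = 0 := by
        rw [sub_smul, sub_smul]
        have h2 : (a * α) • w + (b * c) • u - (a • u + b • w) = 0 := sub_eq_zero.2 hv
        rw [← h2]
        abel
      obtain ⟨-, h3⟩ := hind _ _ h1
      refine ⟨a, ?_⟩
      rw [sub_eq_zero] at h3
      rw [← h3, smul_add, smul_smul]

end Grp

end Cfsg.Agent.H990.HT.O8
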